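import Groth.Agent.Lib.CurveAmple18.EulerTensor
import Groth.Agent.Lib.CurveAmple18.Main
import Groth.Agent.Lib.AffComp11.Main
import Groth.Agent.Lib.PoleOne18.Scheme
import Groth.Agent.Lib.Twist.Triv
import Groth.Agent.Lib.Ample18.Avoid
import Groth.Agent.Lib.Ample18.Separated
import Groth.Agent.Lib.TFOne27.Basic

/-!
# The degree of a tensor product of modules which are nowhere both singular
-/

set_option autoImplicit false
set_option linter.style.haveILetI false
set_option maxHeartbeats 800000
set_option backward.isDefEq.respectTransparency false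

universe u

open CategoryTheory CategoryTheory.Limits AlgebraicGeometry TopologicalSpace Opposite TensorProduct

namespace Groth.Agent.RankOneDeg27

open Groth.Agent.M1 Groth.Agent.CurveCoh17

variable {X : Scheme.{u}}

/-- Tensoring with `E` keeps a short exact sequence when `E` is flat where the sequence is not split trivially. -/
theorem shortExact_tensorR' {S : ShortComplex X.Modules} (hS : S.ShortExact) (E : X.Modules)
    (hE : ∀ x : X, Module.Flat (X.presheaf.stalk x) (E.presheaf.stalk x) ∨ Subsingleton (S.X₁.presheaf.stalk x) ∨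
      Function.Bijective (stalkLin S.f x)) :
    (S.map (M2.tensorR E)).ShortExact := by
  haveI := hS.mono_f
  haveI := hS.epi_g
  have hinj : ∀ x, Function.Injective (stalkLin S.f x) := (mono_iff_stalk S.f).1 hS.mono_f
  have hsurj : ∀ x, Function.Surjective (stalkLin S.g x) := (epi_iff_stalk S.g).1 hS.epi_g
  have hinj' : ∀ x, Function.Injective (LinearMap.rTensor (E.presheaf.stalk x) (stalkLin S.f x)) := fun x => by
    rcases hE x with h | h | h
    · exact Module.Flat.rTensor_preserves_injective_linearMap (stalkLin S.f x) (hinj x)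
    · intro a b _
      have key : ∀ c : S.X₁.presheaf.stalk x ⊗[X.presheaf.stalk x] E.presheaf.stalk x, c = 0 := fun c => by
        induction c using TensorProduct.induction_on with
        | zero => rfl
        | tmul p q => rw [Subsingleton.elim p 0, TensorProduct.zero_tmul]
        | add z w hz hw => rw [hz, hw, add_zero]
      exact (key a).trans (key b).symm
    · exact ((LinearEquiv.ofBijective (stalkLin S.f x) h).rTensor (E.presheaf.stalk x)).injective
  refine { exact := ?_, mono_f := ?_, epi_g := ?_ }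
  · rw [exact_iff_stalk_eq_zero]
    intro x b hb
    have hex : Function.Exact (stalkLin S.f x) (stalkLin S.g x) := by
      intro c
      refine ⟨fun hc => (exact_iff_stalk_eq_zero S).1 hS.exact x c hc, ?_⟩
      rintro ⟨a, rfl⟩
      show ((stalkAb x).map S.f ≫ (stalkAb x).map S.g) a = 0
      rw [← Functor.map_comp, S.zero, Functor.map_zero]
      rfl
    have hex' := rTensor_exact (E.presheaf.stalk x) hex (hsurj x)
    have h0 : LinearMap.rTensor (E.presheaf.stalk x) (stalkLin S.g x) (M2.stalkEquiv S.X₂ E x b) = 0 := by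
      rw [← stalkEquiv_natural]
      exact (congrArg _ hb).trans (map_zero _)
    obtain ⟨c, hc⟩ := (hex' _).1 h0
    obtain ⟨a, rfl⟩ := (M2.stalkEquiv S.X₁ E x).surjective c
    refine ⟨a, (M2.stalkEquiv S.X₂ E x).injective ?_⟩
    rw [← hc]
    exact stalkEquiv_natural S.f E x a
  · refine (mono_iff_stalk _).2 fun x a b h => (M2.stalkEquiv S.X₁ E x).injective ?_
    apply hinj' x
    rw [← stalkEquiv_natural, ← stalkEquiv_natural]
    exact congrArg _ h
  · refine (epi_iff_stalk _).2 fun x b => ?_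
    obtain ⟨c, hc⟩ := LinearMap.rTensor_surjective (E.presheaf.stalk x) (hsurj x) (M2.stalkEquiv S.X₃ E x b)
    obtain ⟨a, rfl⟩ := (M2.stalkEquiv S.X₂ E x).surjective c
    refine ⟨a, (M2.stalkEquiv S.X₃ E x).injective ?_⟩
    rw [← hc]
    exact stalkEquiv_natural S.g E x a

variable {k : Type u} [Field k] [X.Over (Spec (CommRingCat.of k))]

attribute [local instance] stalkMod

theorem finite_and_finrank_tensor {M E : X.Modules} {S : Finset X} (h : SuppIn M S)
    (hfin : Module.Finite k (Coh.HH X M 0))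
    (e : ∀ x ∈ S, Nonempty (E.presheaf.stalk x ≃ₗ[X.presheaf.stalk x] (Fin 1 → X.presheaf.stalk x))) :
    Module.Finite k (Coh.HH X (CohB1.tensorMod M E) 0) ∧
      Module.finrank k (Coh.HH X (CohB1.tensorMod M E) 0) = Module.finrank k (Coh.HH X M 0) := by
  haveI : ∀ x : S, Module.Finite k (M.presheaf.stalk (x : X)) := h.finite_stalk hfin
  haveI : ∀ x : S, Module.Finite k ((CohB1.tensorMod M E).presheaf.stalk (x : X)) := fun x =>
    Module.Finite.equiv (stalkTensorPiA k M E x (e x x.2).some).symm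
  refine ⟨Module.Finite.equiv ((h.tensor E).h0Equiv k).symm, ?_⟩
  rw [((h.tensor E).h0Equiv k).finrank_eq, (h.h0Equiv k).finrank_eq, Module.finrank_pi_fintype,
    Module.finrank_pi_fintype]
  refine Finset.sum_congr rfl fun x _ => ?_
  rw [(stalkTensorPiA k M E x (e x x.2).some).finrank_eq, Module.finrank_pi_fintype, Finset.sum_const,
    Finset.card_univ, Fintype.card_fin, smul_eq_mul, one_mul]

/-- An isomorphism away from points where `E` is free of rank one changes `χ` as much after tensoring with `E`. -/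
theorem euler_sub_tensor' {M N : X.Modules} (φ : M ⟶ N) {S : Finset X} (hM : Adm k M) (hN : Adm k N)
    (hK : SuppIn (kernel φ) S) (hC : SuppIn (cokernel φ) S) (E : X.Modules)
    (e : ∀ x ∈ S, Nonempty (E.presheaf.stalk x ≃ₗ[X.presheaf.stalk x] (Fin 1 → X.presheaf.stalk x)))
    (hME : Adm k (CohB1.tensorMod M E)) :
    Curv2.euler k X (CohB1.tensorMod N E) - Curv2.euler k X (CohB1.tensorMod M E) =
      Curv2.euler k X N - Curv2.euler k X M := by
  obtain ⟨hk, hc, h0⟩ := euler_sub φ hM hN hK hC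
  have s1 := shortExact_tensorR' (kerSC_shortExact φ) E fun x => by
    by_cases hx : x ∈ S
    · exact Or.inl (Module.Flat.of_linearEquiv (e x hx).some)
    · exact Or.inr (Or.inl ⟨fun a b => (hK.zero x hx a).trans (hK.zero x hx b).symm⟩)
  have s2 := shortExact_tensorR' (cokerSC_shortExact φ) E fun x => by
    by_cases hx : x ∈ S
    · exact Or.inl (Module.Flat.of_linearEquiv (e x hx).some)
    · refine Or.inr (Or.inr ⟨(mono_iff_stalk _).1 (cokerSC_shortExact φ).mono_f x, fun b => ?_⟩)
      exact (exact_iff_stalk_eq_zero (cokerSC φ)).1 (cokerSC_shortExact φ).exact x b (hC.zero x hx _)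
  obtain ⟨fK, rK⟩ := finite_and_finrank_tensor (k := k) hK hk e
  obtain ⟨fC, rC⟩ := finite_and_finrank_tensor (k := k) hC hc e
  have aK := (hK.tensor E).adm fK
  have aC := (hC.tensor E).adm fC
  have aI : Adm k (CohB1.tensorMod (Abelian.image φ) E) := adm₃ s1 aK hME
  have e1 := euler_add s1 aK aI
  have e2 := euler_add s2 aI aC
  have ek : Curv2.euler k X (CohB1.tensorMod (kernel φ) E) = (Module.finrank k (Coh.HH X (kernel φ) 0) : ℤ) := by
    rw [(hK.tensor E).euler_eq fK, rK]
  have ec : Curv2.euler k X (CohB1.tensorMod (cokernel φ) E) = (Module.finrank k (Coh.HH X (cokernel φ) 0) : ℤ) := by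
    rw [(hC.tensor E).euler_eq fC, rC]
  change Curv2.euler k X (CohB1.tensorMod M E) =
    Curv2.euler k X (CohB1.tensorMod (kernel φ) E) + Curv2.euler k X (CohB1.tensorMod (Abelian.image φ) E) at e1
  change Curv2.euler k X (CohB1.tensorMod N E) =
    Curv2.euler k X (CohB1.tensorMod (Abelian.image φ) E) + Curv2.euler k X (CohB1.tensorMod (cokernel φ) E) at e2
  rw [h0]
  linarith [e1, e2, ek, ec]

variable [IsProper (X ↘ (Spec (CommRingCat.of k)))]

section
variable (k)
include k

/-- Finitely many points of a proper curve lie in one affine open. -/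
theorem exists_affine_finite (hd : topologicalKrullDim X ≤ 1) [IsNoetherian X] {T : Set X} (hT : T.Finite)
    (hTc : ∀ x ∈ T, IsClosed ({x} : Set X)) (hTo : ∀ C ∈ irreducibleComponents (X : Type u), ¬ C ⊆ T) :
    ∃ U : X.Opens, IsAffineOpen U ∧ T ⊆ U := by
  refine AffComp11.exists_affineOpen T hT NoetherianSpace.finite_irreducibleComponents fun Z hZ => ?_
  let C : Closeds X := ⟨Z, isClosed_of_mem_irreducibleComponents Z hZ⟩
  obtain ⟨y, hyZ, hyT⟩ := Set.not_subset.mp (hTo Z hZ)
  haveI : JacobsonSpace X := LocallyOfFiniteType.jacobsonSpace (X ↘ Spec (CommRingCat.of k))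
  have hTcl : IsClosed T := by
    rw [← Set.biUnion_of_singleton T]; exact hT.isClosed_biUnion hTc
  obtain ⟨p, ⟨hpZ, hpT⟩, hpc⟩ := nonempty_inter_closedPoints (Z := Z ∩ Tᶜ) ⟨y, hyZ, hyT⟩
    (C.isClosed.isLocallyClosed.inter hTcl.isOpen_compl.isLocallyClosed)
  haveI : AlgebraicGeometry.IsReduced (AffComp11.red C).subscheme := RedSepLib.isReduced_vanishingIdeal_subscheme _
  let ι := (AffComp11.red C).subschemeι
  have hr : Set.range ι = Z := Set.ext fun t => AffComp11.mem_range_subschemeι (Z := C)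
  haveI : IrreducibleSpace (AffComp11.red C).subscheme := by
    have he := ι.isClosedEmbedding.isEmbedding
    have hirr : IsIrreducible (Set.range ι) := hr ▸ hZ.1
    haveI : Nonempty (AffComp11.red C).subscheme := by
      obtain ⟨_, a, -⟩ := hirr.nonempty
      exact ⟨a⟩
    have hpre : IsPreirreducible (Set.univ : Set (AffComp11.red C).subscheme) := fun U V hU hV hUn hVn => by
      obtain ⟨U', hU', rfl⟩ := he.isInducing.isOpen_iff.1 hU
      obtain ⟨V', hV', rfl⟩ := he.isInducing.isOpen_iff.1 hV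
      obtain ⟨a, -, ha⟩ := hUn
      obtain ⟨b, -, hb⟩ := hVn
      obtain ⟨_, ⟨c, rfl⟩, hcU, hcV⟩ := hirr.2 U' V' hU' hV' ⟨ι a, ⟨a, rfl⟩, ha⟩ ⟨ι b, ⟨b, rfl⟩, hb⟩
      exact ⟨c, trivial, hcU, hcV⟩
    haveI : PreirreducibleSpace (AffComp11.red C).subscheme := ⟨hpre⟩
    exact ⟨inferInstance⟩
  haveI : IsIntegral (AffComp11.red C).subscheme := isIntegral_of_irreducibleSpace_of_isReduced _
  obtain ⟨p', rfl⟩ : p ∈ Set.range ι := hr ▸ hpZ
  let G : (AffComp11.red C).subscheme.Opens := ι ⁻¹ᵁ ⟨({ι p'} : Set X)ᶜ, hpc.isOpen_compl⟩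
  have hG : G ≠ ⊤ := fun h => (show p' ∉ G from fun h' => h' rfl) (h ▸ trivial)
  have hGa := CurveAmple18.isAffineOpen_of_ne_top (k := k) (ι ≫ (X ↘ Spec (CommRingCat.of k)))
    (ι.isClosedEmbedding.isEmbedding.isInducing.topologicalKrullDim_le.trans hd) G hG
  refine AffComp11.hasTrace_of_isAffineOpen T C G hGa fun t ht htZ => ?_
  obtain ⟨t', rfl⟩ : t ∈ Set.range ι := hr ▸ htZ
  exact ⟨t', fun h => hpT (h ▸ ht), rfl⟩

end

/-- An open immersion of an affine scheme gives a common roof with the structure sheaf. -/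
theorem exists_roof [IsNoetherian X] [X.IsSeparated] {V : Scheme.{u}} [IsAffine V] (j : V ⟶ X) [IsOpenImmersion j]
    {L : X.Modules} (hL : Coh.IsCoh L) (β : (Coh.structureModule X).restrict j ≅ L.restrict j)
    {S : Finset X} (hScl : ∀ x ∈ S, IsClosed ({x} : Set X)) (hS : ∀ x : X, x ∉ S → x ∈ Set.range j) :
    ∃ (W : X.Modules) (φ : W ⟶ L) (ψ : W ⟶ Coh.structureModule X), Coh.IsCoh W ∧
      SuppIn (kernel φ) S ∧ SuppIn (cokernel φ) S ∧ SuppIn (kernel ψ) S ∧ SuppIn (cokernel ψ) S := by
  haveI : IsAffineHom j := by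
    haveI : IsAffineHom (j ≫ terminal.from X) := inferInstance
    exact IsAffineHom.of_comp j (terminal.from X)
  let P := (Scheme.Modules.pushforward j).obj (L.restrict j)
  have hP : Coh.IsQCoh P := PushFin12.isQCoh_pushforward j (L.restrict j) (isQCoh_restrict hL.1 j)
  let a : L ⟶ P := (Scheme.Modules.restrictAdjunction j).unit.app L
  let b : Coh.structureModule X ⟶ P := (Scheme.Modules.restrictAdjunction j).unit.app _ ≫
    (Scheme.Modules.pushforward j).map β.hom
  have ha : IsIso ((Scheme.Modules.restrictFunctor j).map a) := isIso_restrict_unit j L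
  have hb : IsIso ((Scheme.Modules.restrictFunctor j).map b) := by
    haveI := isIso_restrict_unit j (Coh.structureModule X)
    simp only [b, Functor.map_comp]
    infer_instance
  have key : ∀ {A B : X.Modules} (f : A ⟶ B), IsIso ((Scheme.Modules.restrictFunctor j).map f) →
      ∀ U : X.Opens, U ≤ j.opensRange → Function.Bijective (f.app U) := by
    intro A B f hf U hU
    obtain ⟨U', rfl⟩ : ∃ U' : V.Opens, j ''ᵁ U' = U :=
      ⟨j ⁻¹ᵁ U, by rw [Scheme.Hom.image_preimage_eq_opensRange_inf, inf_eq_right.mpr hU]⟩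
    haveI := hf
    exact ConcreteCategory.bijective_of_isIso (((Scheme.Modules.restrictFunctor j).map f).app U')
  obtain ⟨h1, h2⟩ := suppIn_kernel_cokernel _ hScl (U := j.opensRange) hS (key _ (isIso_restrict_fst a b j hb))
  obtain ⟨h3, h4⟩ := suppIn_kernel_cokernel _ hScl (U := j.opensRange) hS (key _ (isIso_restrict_snd a b j ha))
  exact ⟨_, _, _, isCoh_fibreProd hL CurveCoh17.isCoh_structureModule hP a b, h1, h2, h3, h4⟩

/-- The stalks where a module is trivial. -/
theorem nonempty_stalk_equiv_of_restrict {M : X.Modules} {D : X.Opens} {x : X} (hx : x ∈ D)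
    (e : M.restrict D.ι ≅ Coh.structureModule (D : Scheme.{u})) :
    Nonempty (M.presheaf.stalk x ≃ₗ[X.presheaf.stalk x] (Fin 1 → X.presheaf.stalk x)) := by
  obtain ⟨g, hg⟩ := M2.exists_generator e
  exact ⟨(LinearEquiv.ofBijective (LinearMap.toSpanSingleton (X.presheaf.stalk x) (M.presheaf.stalk x)
    (Amp.gm M x hx g)) (Amp.gen_of_isGenerator hg hx)).symm.trans
      (LinearEquiv.funUnique (Fin 1) (X.presheaf.stalk x) (X.presheaf.stalk x)).symm⟩

/-- The locus where a module is trivial. -/
def trivLocus (L : X.Modules) : X.Opens :=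
  ⟨{x | ∃ U : X.Opens, x ∈ U ∧ Nonempty (L.restrict U.ι ≅ Coh.structureModule (U : Scheme.{u}))},
    isOpen_iff_forall_mem_open.mpr fun _ ⟨U, hx, h⟩ => ⟨U, fun _ hy => ⟨U, hy, h⟩, U.2, hx⟩⟩

theorem euler_tensor_of_trivial_or_trivial [AlgebraicGeometry.IsReduced X] (hd : topologicalKrullDim X ≤ 1)
    (hcomp : ∀ C ∈ irreducibleComponents (X : Type u), topologicalKrullDim C = 1) {L M : X.Modules}
    (hL : Coh.IsCoh L) (hM : Coh.IsCoh M) (hLgen : ∀ η ∈ genericPoints (X : Type u), η ∈ trivLocus L)
    (hMgen : ∀ η ∈ genericPoints (X : Type u), η ∈ trivLocus M) (hLM : ∀ x, x ∈ trivLocus L ∨ x ∈ trivLocus M) :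
    Curv2.euler k X (CohB1.tensorMod L M) + Curv2.euler k X (Coh.structureModule X) =
      Curv2.euler k X L + Curv2.euler k X M := by
  classical
  have hX := CurveAmple18.curveLike k X hd
  haveI := hX.noetherian
  haveI := hX.separated
  haveI : JacobsonSpace X := LocallyOfFiniteType.jacobsonSpace (X ↘ Spec (CommRingCat.of k))
  obtain ⟨T₀, hT₀, hT₀c⟩ := exists_finset_closedPoints hd (C := (trivLocus M : Set X)ᶜ)
    (trivLocus M).2.isClosed_compl fun g hg hgC => hgC (hMgen g (TFOne27.mem_genericPoints.mpr hg))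
  have hch : ∀ C : irreducibleComponents (X : Type u), ∃ p : X, p ∈ C.1 ∧ p ∈ trivLocus L ∧ IsClosed ({p} : Set X) := by
    intro C
    obtain ⟨η, hη, hgen⟩ := TFOne27.exists_generic_of_component C.2
    obtain ⟨p, ⟨h1, h2⟩, h3⟩ := nonempty_inter_closedPoints (Z := C.1 ∩ (trivLocus L : Set X))
      ⟨η, hgen.mem, hLgen η hη⟩ ((isClosed_of_mem_irreducibleComponents _ C.2).isLocallyClosed.inter
        (trivLocus L).2.isLocallyClosed)
    exact ⟨p, h1, h2, h3⟩
  choose pC hpC hpL hpc using hch
  haveI := (NoetherianSpace.finite_irreducibleComponents (α := X)).to_subtype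
  let T : Set X := (T₀ : Set X) ∪ Set.range pC
  have hT : T.Finite := T₀.finite_toSet.union (Set.finite_range _)
  have hTL : T ⊆ trivLocus L := by
    rintro x (hx | ⟨C, rfl⟩)
    · exact (hLM x).resolve_right (hT₀.le hx)
    · exact hpL C
  have hTc : ∀ x ∈ T, IsClosed ({x} : Set X) := by
    rintro x (hx | ⟨C, rfl⟩)
    · exact hT₀c x hx
    · exact hpc C
  obtain ⟨U₀, hU₀, hTU₀⟩ := exists_affine_finite k hd hT hTc fun C hC hsub => by
    obtain ⟨η, hη, hgen⟩ := TFOne27.exists_generic_of_component hC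
    have hc := hTc η (hsub hgen.mem)
    have hCs : C = {η} := by rw [← hgen.def, hc.closure_eq]
    have hd0 := hcomp C hC
    haveI : Subsingleton C := by rw [hCs]; exact Set.subsingleton_singleton.coe_sort
    have h0 := topologicalKrullDim_zero_of_discreteTopology C
    rw [hd0] at h0
    exact absurd h0 (by decide)
  obtain ⟨a, haU, hTa⟩ := PoleOne18.exists_basicOpen_finite hU₀ hT (trivLocus L) hTU₀ hTL
  let U := X.basicOpen a
  have hU : IsAffineOpen U := hU₀.basicOpen a
  haveI : IsAffine U.toScheme := hU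
  have hLU : PicF.IsInvertible (L.restrict U.ι) := Twist.isInvertible_restrict L U.ι fun y => haU y.2
  obtain ⟨s, hG, hTG, -⟩ := Amp.exists_affine_section_finite (X := U.toScheme) hLU
    (hT.preimage Subtype.val_injective.injOn : (Subtype.val ⁻¹' T : Set U).Finite) (W := ⊤)
    fun _ _ => trivial
  let G := CohB1.genLocus _ s
  haveI : IsAffine G.toScheme := hG
  haveI : IsIso ((Scheme.Modules.restrictFunctor G.ι).map s) := by
    have hg := Amp.isGenerator_genLocus hLU s
    rw [← Amp.secHom_gval s, Twist.isIso_restrict_secHom_iff]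
    intro V hV
    have := hg V hV
    simp only [Amp.res_res] at this
    exact this
  let j : G.toScheme ⟶ X := G.ι ≫ U.ι
  let c : (Coh.structureModule X).restrict U.ι ≅ Coh.structureModule U.toScheme :=
    (Scheme.Modules.restrictFunctorIsoPullback U.ι).app _ ≪≫ PicLoc.pullbackStructureIso U.ι
  let β : (Coh.structureModule X).restrict j ≅ L.restrict j :=
    (Scheme.Modules.restrictFunctorComp G.ι U.ι).app _ ≪≫
      (Scheme.Modules.restrictFunctor G.ι).mapIso c ≪≫
      asIso ((Scheme.Modules.restrictFunctor G.ι).map s) ≪≫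
      ((Scheme.Modules.restrictFunctorComp G.ι U.ι).app L).symm
  have hrange : ∀ x ∈ T, x ∈ Set.range j := fun x hx => ⟨⟨⟨x, hTa hx⟩, hTG hx⟩, rfl⟩
  obtain ⟨S, hS, hScl⟩ := exists_finset_closedPoints hd (C := (Set.range j)ᶜ)
    j.isOpenEmbedding.isOpen_range.isClosed_compl fun g hg hgC => by
      refine hgC ?_
      have hη := TFOne27.mem_genericPoints.mpr hg
      let C : irreducibleComponents (X : Type u) := ⟨closure {g}, hη⟩
      exact (specializes_iff_mem_closure.mpr (hpC C)).mem_open j.isOpenEmbedding.isOpen_range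
        (hrange _ (Or.inr ⟨C, rfl⟩))
  have hS' : ∀ x : X, x ∉ S → x ∈ Set.range j := fun x hx => by
    by_contra h
    exact hx (Finset.mem_coe.1 (hS ▸ h : x ∈ (S : Set X)))
  obtain ⟨W, φ, ψ, hW, h1, h2, h3, h4⟩ := exists_roof j hL β hScl hS'
  have eM : ∀ x ∈ S, Nonempty (M.presheaf.stalk x ≃ₗ[X.presheaf.stalk x] (Fin 1 → X.presheaf.stalk x)) := by
    intro x hx
    have hxS : x ∈ (Set.range j)ᶜ := hS ▸ hx
    obtain ⟨D, hxD, ⟨e⟩⟩ : x ∈ trivLocus M := by
      by_contra h
      exact hxS (hrange x (Or.inl (hT₀.ge h)))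
    exact nonempty_stalk_equiv_of_restrict hxD e
  have hWM := hX.adm (CurveCoh17.isCoh_tensor hW hM)
  have a1 := euler_sub_tensor' φ (hX.adm hW) (hX.adm hL) h1 h2 M eM hWM
  have a2 := euler_sub_tensor' ψ (hX.adm hW) (hX.adm CurveCoh17.isCoh_structureModule) h3 h4 M eM hWM
  rw [euler_iso (M2.tensorLUnit M)] at a2
  linarith

end Groth.Agent.RankOneDeg27
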